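import Groth.Prelude.Def_HTop2
import Mathlib.RingTheory.Localization.Away.Basic
import Mathlib.RingTheory.Nilpotent.Basic
import Mathlib.Algebra.CharP.Lemmas
import Mathlib.RingTheory.LocalRing.ResidueField.Basic
import Mathlib.AlgebraicGeometry.Properties
import Mathlib.RingTheory.IntegralClosure.IntegrallyClosed

/-!
Basic theory of seminormal and absolutely weakly normal rings.
-/

universe u

open AlgebraicGeometry HTop

namespace Groth.Agent.Lib.Seminormal.Basic

variable {A B : Type u} [CommRing A] [CommRing B]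

theorem isReduced_of_isSeminormalRing (h : IsSeminormalRing A) : _root_.IsReduced A := by
  refine (isReduced_iff_pow_one_lt 2 one_lt_two).mpr fun x hx => ?_
  obtain ⟨a, -, hu⟩ := h 0 0 (by simp)
  have h1 := hu x ⟨hx.symm, by rw [pow_succ, hx, zero_mul]⟩
  have h2 := hu 0 ⟨by simp, by simp⟩
  rw [h1, h2]

theorem eq_of_sq_of_cube [_root_.IsReduced A] {a b : A} (h2 : a ^ 2 = b ^ 2)
    (h3 : a ^ 3 = b ^ 3) : a = b := by
  rw [← sub_eq_zero]
  refine eq_zero_of_pow_eq_zero (n := 3) ?_
  linear_combination 4 * h3 - 3 * (a + b) * h2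

theorem eq_of_pow_of_mul [_root_.IsReduced A] {p : ℕ} (hp : p.Prime) {a b : A}
    (h1 : a ^ p = b ^ p) (h2 : (p : A) * a = (p : A) * b) : a = b := by
  rw [← sub_eq_zero]
  obtain ⟨r, hr⟩ := exists_add_pow_prime_eq hp (a - b) b
  rw [sub_add_cancel, h1] at hr
  have h0 : (p : A) * (a - b) = 0 := by linear_combination h2
  refine eq_zero_of_pow_eq_zero (n := p) ?_
  linear_combination hr * (-1 : A) - b * r * h0

theorem isSeminormalRing_of_exists [_root_.IsReduced A]
    (h : ∀ x y : A, x ^ 3 = y ^ 2 → ∃ a, x = a ^ 2 ∧ y = a ^ 3) : IsSeminormalRing A := by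
  intro x y hxy
  obtain ⟨a, h1, h2⟩ := h x y hxy
  exact ⟨a, ⟨h1, h2⟩, fun b hb => eq_of_sq_of_cube (hb.1.symm.trans h1) (hb.2.symm.trans h2)⟩

theorem isAWNRing_of_exists (hA : IsSeminormalRing A)
    (h : ∀ p : ℕ, p.Prime → ∀ x y : A, (p : A) ^ p * x = y ^ p →
      ∃ a, x = a ^ p ∧ y = (p : A) * a) : IsAWNRing A := by
  have := isReduced_of_isSeminormalRing hA
  refine ⟨hA, fun p hp x y hxy => ?_⟩
  obtain ⟨a, h1, h2⟩ := h p hp x y hxy
  exact ⟨a, ⟨h1, h2⟩, fun b hb => eq_of_pow_of_mul hp (hb.1.symm.trans h1) (hb.2.symm.trans h2)⟩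

section Localization

variable [Algebra A B] (M : Submonoid A) [IsLocalization M B]

include M in
theorem exists_of_isLocalization_seminormal (h : IsSeminormalRing A) (x y : B)
    (hxy : x ^ 3 = y ^ 2) : ∃ a, x = a ^ 2 ∧ y = a ^ 3 := by
  obtain ⟨⟨u, s⟩, hu⟩ := IsLocalization.surj M x
  obtain ⟨⟨v, t⟩, hv⟩ := IsLocalization.surj M y
  let f := algebraMap A B
  simp only at hu hv
  have hX : x * f (s * t) ^ 2 = f (u * s * t ^ 2) := by
    simp only [map_mul, map_pow, f]
    linear_combination (algebraMap A B s * algebraMap A B t ^ 2) * hu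
  have hY : y * f (s * t) ^ 3 = f (v * s ^ 3 * t ^ 2) := by
    simp only [map_mul, map_pow, f]
    linear_combination (algebraMap A B s ^ 3 * algebraMap A B t ^ 2) * hv
  have he : f ((u * s * t ^ 2) ^ 3) = f ((v * s ^ 3 * t ^ 2) ^ 2) := by
    rw [map_pow, map_pow, ← hX, ← hY, mul_pow, mul_pow, hxy, ← pow_mul, ← pow_mul]
  obtain ⟨c, hc⟩ := (IsLocalization.eq_iff_exists M B).mp he
  obtain ⟨a, ⟨ha1, ha2⟩, -⟩ := h (u * s * t ^ 2 * c ^ 2) (v * s ^ 3 * t ^ 2 * c ^ 3)
    (by linear_combination (c : A) ^ 5 * hc)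
  have hX' : x * f (s * t * c) ^ 2 = f a ^ 2 := by
    rw [← map_pow f a, ← ha1, map_mul f (_ * _) (c : A), mul_pow, ← mul_assoc, hX]
    simp [map_mul, map_pow]
  have hY' : y * f (s * t * c) ^ 3 = f a ^ 3 := by
    rw [← map_pow f a, ← ha2, map_mul f (_ * _) (c : A), mul_pow, ← mul_assoc, hY]
    simp [map_mul, map_pow]
  have hw : f (s * t * c) = algebraMap A B ((s * t * c : M) : A) := by simp [f]
  rw [hw] at hX' hY'
  refine ⟨IsLocalization.mk' B a (s * t * c), ?_, ?_⟩
  · rw [← ((IsLocalization.map_units B (s * t * c)).pow 2).mul_left_inj, ← mul_pow,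
      IsLocalization.mk'_spec, hX']
  · rw [← ((IsLocalization.map_units B (s * t * c)).pow 3).mul_left_inj, ← mul_pow,
      IsLocalization.mk'_spec, hY']

include M in
theorem exists_of_isLocalization_awn (h : IsAWNRing A) {p : ℕ} (hp : p.Prime) (x y : B)
    (hxy : (p : B) ^ p * x = y ^ p) : ∃ a, x = a ^ p ∧ y = (p : B) * a := by
  obtain ⟨n, rfl⟩ : ∃ n, p = n + 1 := ⟨p - 1, (Nat.succ_pred_eq_of_pos hp.pos).symm⟩
  obtain ⟨⟨u, s⟩, hu⟩ := IsLocalization.surj M x
  obtain ⟨⟨v, t⟩, hv⟩ := IsLocalization.surj M y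
  let f := algebraMap A B
  simp only at hu hv
  have hX : x * f (s * t) ^ (n + 1) = f (u * s ^ n * t ^ (n + 1)) := by
    simp only [map_mul, map_pow, f]
    linear_combination (algebraMap A B s ^ n * algebraMap A B t ^ (n + 1)) * hu
  have hY : y * f (s * t) = f (v * s) := by
    simp only [map_mul, f]
    linear_combination (algebraMap A B s) * hv
  have he : f (((n + 1 : ℕ) : A) ^ (n + 1) * (u * s ^ n * t ^ (n + 1))) = f ((v * s) ^ (n + 1)) := by
    rw [map_mul f _ (u * s ^ n * t ^ (n + 1)), map_pow, map_pow, map_natCast, ← hX, ← hY,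
      mul_pow y, ← hxy]
    ring
  obtain ⟨c, hc⟩ := (IsLocalization.eq_iff_exists M B).mp he
  obtain ⟨a, ⟨ha1, ha2⟩, -⟩ := h.2 (n + 1) hp (u * s ^ n * t ^ (n + 1) * c ^ (n + 1)) (v * s * c)
    (by linear_combination (c : A) ^ n * hc)
  have hX' : x * f (s * t * c) ^ (n + 1) = f a ^ (n + 1) := by
    rw [← map_pow f a, ← ha1, map_mul f (_ * _) (c : A), mul_pow, ← mul_assoc, hX]
    simp [map_mul, map_pow]
  have hY' : y * f (s * t * c) = f ((n + 1 : ℕ) : A) * f a := by
    rw [← map_mul f _ a, ← ha2, map_mul f (_ * _) (c : A), ← mul_assoc, hY]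
    simp [map_mul]
  have hw : f (s * t * c) = algebraMap A B ((s * t * c : M) : A) := by simp [f]
  rw [hw] at hX' hY'
  rw [map_natCast] at hY'
  refine ⟨IsLocalization.mk' B a (s * t * c), ?_, ?_⟩
  · rw [← ((IsLocalization.map_units B (s * t * c)).pow (n + 1)).mul_left_inj, ← mul_pow,
      IsLocalization.mk'_spec, hX']
  · rw [← (IsLocalization.map_units B (s * t * c)).mul_left_inj,
      mul_assoc ((n + 1 : ℕ) : B), IsLocalization.mk'_spec, hY']

include M in
theorem isReduced_of_isLocalization [_root_.IsReduced A] : _root_.IsReduced B := by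
  refine (isReduced_iff_pow_one_lt 2 one_lt_two).mpr fun x hx => ?_
  obtain ⟨⟨u, s⟩, hu⟩ := IsLocalization.surj M x
  simp only at hu
  have he : algebraMap A B (u ^ 2) = algebraMap A B 0 := by
    rw [map_pow, ← hu, mul_pow, hx, zero_mul, map_zero]
  obtain ⟨c, hc⟩ := (IsLocalization.eq_iff_exists M B).mp he
  rw [mul_zero] at hc
  have : (c : A) * u = 0 :=
    eq_zero_of_pow_eq_zero (n := 2) (by linear_combination (c : A) * hc)
  rw [← (IsLocalization.map_units B s).mul_left_inj, zero_mul, hu, ← map_zero (algebraMap A B)]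
  exact (IsLocalization.eq_iff_exists M B).mpr ⟨c, by rw [this, mul_zero]⟩

include M in
theorem isSeminormalRing_of_isLocalization (h : IsSeminormalRing A) : IsSeminormalRing B :=
  have := isReduced_of_isSeminormalRing h
  have := isReduced_of_isLocalization (B := B) M
  isSeminormalRing_of_exists (exists_of_isLocalization_seminormal M h)

include M in
theorem isAWNRing_of_isLocalization (h : IsAWNRing A) : IsAWNRing B :=
  isAWNRing_of_exists (isSeminormalRing_of_isLocalization M h.1)
    fun _ hp => exists_of_isLocalization_awn M h hp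

end Localization

section Glue

variable {ι : Type*} (r : ι → A) (S : ι → Type u) [∀ i, CommRing (S i)] [∀ i, Algebra A (S i)]
  [∀ i, IsLocalization.Away (r i) (S i)] (hr : Ideal.span (Set.range r) = ⊤)

include hr in
theorem eq_of_forall {x y : A} (h : ∀ i, algebraMap A (S i) x = algebraMap A (S i) y) : x = y := by
  refine Localization.algebraMap_injective_of_span_eq_top (Set.range r) hr (funext fun a => ?_)
  obtain ⟨a, i, rfl⟩ := a
  have e := IsLocalization.algEquiv (Submonoid.powers (r i)) (S i) (Localization.Away (r i))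
  have := congrArg e (h i)
  rw [AlgEquiv.commutes, AlgEquiv.commutes] at this
  exact this

include hr in
theorem isReduced_of_span [∀ i, _root_.IsReduced (S i)] : _root_.IsReduced A :=
  (isReduced_iff_pow_one_lt 2 one_lt_two).mpr fun x hx => eq_of_forall r S hr fun i => by
    rw [map_zero]
    exact eq_zero_of_pow_eq_zero (n := 2) (by rw [← map_pow, hx, map_zero])

include hr in
/-- Gluing of elements of a reduced ring characterised by equations with unique solutions. -/
theorem exists_glue (P : ∀ (C : Type u) [CommRing C], (A →+* C) → C → Prop)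
    (hmap : ∀ (C D : Type u) [CommRing C] [CommRing D] (f : A →+* C) (g : C →+* D) (a : C),
      P C f a → P D (g.comp f) (g a))
    (huniq : ∀ (C : Type u) [CommRing C] [_root_.IsReduced C] (f : A →+* C) (a b : C),
      P C f a → P C f b → a = b)
    [_root_.IsReduced A]
    (hex : ∀ i, ∃ a, P (S i) (algebraMap A (S i)) a) :
    ∃ a : A, ∀ i, P (S i) (algebraMap A (S i)) (algebraMap A (S i) a) := by
  have hex' : ∀ a : Set.range r, ∃ z, P (Localization.Away (a : A))
      (algebraMap A (Localization.Away (a : A))) z := by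
    rintro ⟨a, i, rfl⟩
    obtain ⟨z, hz⟩ := hex i
    let e := IsLocalization.algEquiv (Submonoid.powers (r i)) (S i) (Localization.Away (r i))
    refine ⟨e z, ?_⟩
    have := hmap _ _ _ (e : S i →+* Localization.Away (r i)) _ hz
    rwa [show ((e : S i →+* Localization.Away (r i))).comp (algebraMap A (S i)) =
      algebraMap A (Localization.Away (r i)) from RingHom.ext fun x => e.commutes x] at this
  choose z hz using hex'
  obtain ⟨w, hw, -⟩ := Localization.existsUnique_algebraMap_eq_of_span_eq_top (Set.range r) hr z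
    fun a b => by
      have := isReduced_of_isLocalization (A := A) (B := Localization.Away ((a : A) * b))
        (Submonoid.powers ((a : A) * b))
      refine huniq _ (algebraMap A _) _ _ ?_ ?_
      · have := hmap _ _ _ (IsLocalization.Away.awayToAwayRight
          (P := Localization.Away ((a : A) * b)) (a : A) b) _ (hz a)
        rwa [show (IsLocalization.Away.awayToAwayRight (P := Localization.Away ((a : A) * b))
          (a : A) b).comp (algebraMap A (Localization.Away (a : A))) = algebraMap A _ from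
          RingHom.ext fun x => IsLocalization.Away.awayToAwayRight_eq (a : A) b x] at this
      · have := hmap _ _ _ (IsLocalization.Away.awayToAwayLeft
          (P := Localization.Away ((a : A) * b)) (b : A) a) _ (hz b)
        rwa [show (IsLocalization.Away.awayToAwayLeft (P := Localization.Away ((a : A) * b))
          (b : A) a).comp (algebraMap A (Localization.Away (b : A))) = algebraMap A _ from
          RingHom.ext fun x => IsLocalization.Away.awayToAwayLeft_eq (b : A) a x] at this
  refine ⟨w, fun i => ?_⟩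
  have := hz ⟨r i, i, rfl⟩
  rw [← hw] at this
  let e := IsLocalization.algEquiv (Submonoid.powers (r i)) (Localization.Away (r i)) (S i)
  have := hmap _ _ _ (e : Localization.Away (r i) →+* S i) _ this
  rwa [show ((e : Localization.Away (r i) →+* S i)).comp (algebraMap A _) =
    algebraMap A (S i) from RingHom.ext fun x => e.commutes x,
    show (e : Localization.Away (r i) →+* S i) (algebraMap A _ w) = algebraMap A (S i) w from
      e.commutes w] at this

include hr in
theorem isSeminormalRing_of_span (h : ∀ i, IsSeminormalRing (S i)) : IsSeminormalRing A := by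
  have := fun i => isReduced_of_isSeminormalRing (h i)
  have := isReduced_of_span r S hr
  refine isSeminormalRing_of_exists fun x y hxy => ?_
  obtain ⟨a, ha⟩ := exists_glue r S hr (fun C _ f z => f x = z ^ 2 ∧ f y = z ^ 3)
    (fun C D _ _ f g z hz => ⟨by simp [hz.1], by simp [hz.2]⟩)
    (fun C _ _ f z w hz hw => eq_of_sq_of_cube (hz.1.symm.trans hw.1) (hz.2.symm.trans hw.2))
    (fun i => (h i _ _ (by rw [← map_pow, ← map_pow, hxy])).exists)
  exact ⟨a, eq_of_forall r S hr fun i => by simp [(ha i).1],
    eq_of_forall r S hr fun i => by simp [(ha i).2]⟩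

include hr in
theorem isAWNRing_of_span (h : ∀ i, IsAWNRing (S i)) : IsAWNRing A := by
  have hsn := isSeminormalRing_of_span r S hr fun i => (h i).1
  have := isReduced_of_isSeminormalRing hsn
  refine isAWNRing_of_exists hsn fun p hp x y hxy => ?_
  obtain ⟨a, ha⟩ := exists_glue r S hr (fun C _ f z => f x = z ^ p ∧ f y = (p : C) * z)
    (fun C D _ _ f g z hz => ⟨by simp [hz.1], by simp [hz.2]⟩)
    (fun C _ _ f z w hz hw => eq_of_pow_of_mul hp (hz.1.symm.trans hw.1) (hz.2.symm.trans hw.2))
    (fun i => ((h i).2 p hp _ _ (by rw [← map_natCast (algebraMap A (S i)), ← map_pow, ← map_mul,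
      hxy, map_pow])).exists)
  exact ⟨a, eq_of_forall r S hr fun i => by simp [(ha i).1],
    eq_of_forall r S hr fun i => by simp [(ha i).2]⟩

end Glue

theorem isSeminormalRing_of_isIntegrallyClosed [IsDomain A] [IsIntegrallyClosed A] :
    IsSeminormalRing A := by
  refine isSeminormalRing_of_exists fun x y hxy => ?_
  by_cases hx : x = 0
  · refine ⟨0, by simp [hx], ?_⟩
    have : y ^ 2 = 0 := by rw [← hxy, hx]; simp
    simpa using this
  · let K := FractionRing A
    let f := algebraMap A K
    have hinj : Function.Injective f := IsFractionRing.injective A K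
    have hfx : f x ≠ 0 := (map_ne_zero_iff f hinj).mpr hx
    have hsq : (f y / f x) ^ 2 = f x := by
      rw [div_pow, div_eq_iff (pow_ne_zero _ hfx), ← map_pow f y, ← hxy, map_pow]
      ring
    have hint : IsIntegral A (f y / f x) := IsIntegral.of_pow two_pos
      (by rw [hsq]; exact isIntegral_algebraMap)
    obtain ⟨a, ha⟩ := IsIntegrallyClosed.isIntegral_iff.mp hint
    refine ⟨a, hinj ?_, hinj ?_⟩
    · rw [map_pow, ha, hsq]
    · rw [map_pow, ha, pow_succ, hsq, mul_div_cancel₀ _ hfx]

section Scheme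

open Opposite

theorem isSeminormal_iff_forall (X : Scheme.{u}) :
    IsSeminormal X ↔ ∀ U : X.affineOpens, IsSeminormalRing Γ(X, U) := by
  refine ⟨fun h U => ?_, fun h x => ?_⟩
  · choose V hxV hV using h
    refine of_affine_open_cover (P := fun U : X.affineOpens => IsSeminormalRing Γ(X, U)) V
      (eq_top_iff.mpr fun x _ => TopologicalSpace.Opens.mem_iSup.mpr ⟨x, hxV x⟩) U
      (fun U f hU => ?_) (fun U s hs hU => ?_) hV
    · have := U.2.isLocalization_basicOpen f
      show IsSeminormalRing Γ(X, X.basicOpen f)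
      exact isSeminormalRing_of_isLocalization (Submonoid.powers f) hU
    · have := fun f : (s : Set Γ(X, U)) => U.2.isLocalization_basicOpen f.1
      exact isSeminormalRing_of_span (fun f : (s : Set Γ(X, U)) => f.1)
        (fun f => Γ(X, X.basicOpen f.1)) (by rwa [Subtype.range_coe]) fun f => hU f
  · obtain ⟨U, hU, hx, -⟩ := exists_isAffineOpen_mem_and_subset (x := x) (U := ⊤) trivial
    exact ⟨⟨U, hU⟩, hx, h _⟩

theorem isAWN_iff_forall (X : Scheme.{u}) :
    IsAWN X ↔ ∀ U : X.affineOpens, IsAWNRing Γ(X, U) := by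
  refine ⟨fun h U => ?_, fun h x => ?_⟩
  · choose V hxV hV using h
    refine of_affine_open_cover (P := fun U : X.affineOpens => IsAWNRing Γ(X, U)) V
      (eq_top_iff.mpr fun x _ => TopologicalSpace.Opens.mem_iSup.mpr ⟨x, hxV x⟩) U
      (fun U f hU => ?_) (fun U s hs hU => ?_) hV
    · have := U.2.isLocalization_basicOpen f
      show IsAWNRing Γ(X, X.basicOpen f)
      exact isAWNRing_of_isLocalization (Submonoid.powers f) hU
    · have := fun f : (s : Set Γ(X, U)) => U.2.isLocalization_basicOpen f.1
      exact isAWNRing_of_span (fun f : (s : Set Γ(X, U)) => f.1)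
        (fun f => Γ(X, X.basicOpen f.1)) (by rwa [Subtype.range_coe]) fun f => hU f
  · obtain ⟨U, hU, hx, -⟩ := exists_isAffineOpen_mem_and_subset (x := x) (U := ⊤) trivial
    exact ⟨⟨U, hU⟩, hx, h _⟩

theorem isReduced_of_isSeminormal {X : Scheme.{u}} (h : IsSeminormal X) :
    AlgebraicGeometry.IsReduced X := by
  rw [isSeminormal_iff_forall] at h
  have : ∀ x : X, _root_.IsReduced (X.presheaf.stalk x) := fun x => by
    obtain ⟨U, hU, hx, -⟩ := exists_isAffineOpen_mem_and_subset (x := x) (U := ⊤) trivial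
    have := isReduced_of_isSeminormalRing (h ⟨U, hU⟩)
    let := TopCat.Presheaf.algebra_section_stalk X.presheaf ⟨x, hx⟩
    have := hU.isLocalization_stalk ⟨x, hx⟩
    exact isReduced_of_isLocalization (A := Γ(X, U)) (B := X.presheaf.stalk x)
      (hU.primeIdealOf ⟨x, hx⟩).asIdeal.primeCompl
  exact isReduced_of_isReduced_stalk X

end Scheme

end Groth.Agent.Lib.Seminormal.Basic
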